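import Mathlib
import Cfsg.Agent.Lib.Grp.CoprimeAbelian

/-!
For a noncyclic abelian group `E` acting coprimely, the index of an invariant subgroup divides the
product of the indices in the fixed point subgroups of the nonidentity elements of `E`.
-/

set_option autoImplicit false

namespace Cfsg.Agent.Grp.FixBFC

open scoped Pointwise commutatorElement
open Subgroup

variable {X : Type*} [Group X] [Finite X]

/-- The nonidentity elements of a subgroup, as a finset. -/
noncomputable def nonOne (E : Subgroup X) : Finset X := by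
  classical exact (Set.toFinite {e : X | e ∈ E ∧ e ≠ 1}).toFinset

omit [Group X] [Finite X] in
theorem mem_nonOne [Group X] [Finite X] {E : Subgroup X} {e : X} : e ∈ nonOne E ↔ e ∈ E ∧ e ≠ 1 := by
  simp [nonOne]

theorem relIndex_sup_eq (C Q : Subgroup X) (h : C ≤ normalizer (Q : Set X)) :
    Q.relIndex (C ⊔ Q) = Q.relIndex C := by
  have h1 := card_sup_mul_card_inf (H := C) (N := Q) h
  have h2 : Nat.card Q * Q.relIndex (C ⊔ Q) = Nat.card ↥(C ⊔ Q) := by
    rw [← Subgroup.relIndex_bot_left, ← Subgroup.relIndex_bot_left,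
      Subgroup.relIndex_mul_relIndex _ _ _ bot_le le_sup_right]
  have h3 : Nat.card ↥(C ⊓ Q) * Q.relIndex C = Nat.card C := by
    rw [← Subgroup.inf_relIndex_left C Q, ← Subgroup.relIndex_bot_left, ← Subgroup.relIndex_bot_left,
      Subgroup.relIndex_mul_relIndex _ _ _ bot_le inf_le_left]
  refine Nat.eq_of_mul_eq_mul_left (mul_pos (Nat.card_pos (α := Q)) (Nat.card_pos (α := ↥(C ⊓ Q)))) ?_
  linear_combination Nat.card ↥(C ⊓ Q) * h2 - Nat.card Q * h3 + h1

/-- The abelian step. -/
theorem relIndex_dvd_step (E T R : Subgroup X) [IsMulCommutative E] (hE : ¬ IsCyclic E)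
    (hET : E ≤ normalizer (T : Set X)) (hcop : (Nat.card E).Coprime (Nat.card T)) (hRT : R ≤ T)
    (hab : ⁅T, T⁆ ≤ R) :
    R.relIndex T ∣ ∏ e ∈ nonOne E, R.relIndex (T ⊓ centralizer ({e} : Set X)) := by
  classical
  have key : ∀ s : Finset X,
      R.relIndex (R ⊔ ⨆ e ∈ s, T ⊓ centralizer ({e} : Set X)) ∣
        ∏ e ∈ s, R.relIndex (T ⊓ centralizer ({e} : Set X)) := by
    intro s
    induction s using Finset.induction_on with
    | empty => simp
    | insert e s hes ih =>
      rw [Finset.iSup_insert, Finset.prod_insert hes]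
      set Q := R ⊔ ⨆ e ∈ s, T ⊓ centralizer ({e} : Set X) with hQ
      set C := T ⊓ centralizer ({e} : Set X) with hC
      have hQT : Q ≤ T := sup_le hRT (iSup₂_le fun _ _ => inf_le_left)
      have hRQ : R ≤ Q := le_sup_left
      have hTQ : T ≤ normalizer (Q : Set X) := by
        rw [Subgroup.le_normalizer_iff_commutator_le_left]
        exact (Subgroup.commutator_mono hQT le_rfl).trans (hab.trans hRQ)
      rw [show R ⊔ (C ⊔ ⨆ e ∈ s, T ⊓ centralizer ({e} : Set X)) = C ⊔ Q by
        rw [hQ]; exact sup_left_comm _ _ _]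
      rw [← Subgroup.relIndex_mul_relIndex R Q (C ⊔ Q) hRQ le_sup_right,
        relIndex_sup_eq C Q (inf_le_left.trans hTQ), mul_comm]
      exact mul_dvd_mul (Subgroup.relIndex_dvd_of_le_left _ hRQ) ih
  have h := key (nonOne E)
  suffices hT : R ⊔ ⨆ e ∈ nonOne E, T ⊓ centralizer ({e} : Set X) = T by rwa [hT] at h
  refine le_antisymm (sup_le hRT (iSup₂_le fun _ _ => inf_le_left)) ?_
  refine le_trans (le_of_eq (generated_by_centralizers E T hE hET hcop).symm) (le_trans ?_ le_sup_right)
  exact iSup₂_le fun e he => le_iSup₂_of_le e (mem_nonOne.mpr he) le_rfl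

theorem commutator_sup_le {R D : Subgroup X} (hD : D ≤ normalizer (R : Set X)) (hDD : ⁅D, D⁆ ≤ R) :
    ⁅R ⊔ D, R ⊔ D⁆ ≤ R := by
  have hmem : ∀ g ∈ R ⊔ D, ∃ r ∈ R, ∃ d ∈ D, g = r * d := fun g hg => by
    have h1 : g ∈ (↑(R ⊔ D) : Set X) := hg
    rw [Subgroup.coe_mul_of_right_le_normalizer_left R D hD] at h1
    obtain ⟨r, hr, d, hd, rfl⟩ := Set.mem_mul.mp h1
    exact ⟨r, hr, d, hd, rfl⟩
  rw [Subgroup.commutator_le]
  intro g hg g' hg'
  obtain ⟨r, hr, d, hd, rfl⟩ := hmem g hg
  obtain ⟨r', hr', d', hd', rfl⟩ := hmem g' hg'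
  have e : ⁅r * d, r' * d'⁆ =
      r * (d * r' * d⁻¹) * ⁅d, d'⁆ * (d' * r⁻¹ * d'⁻¹) * r'⁻¹ := by
    simp only [commutatorElement_def]; group
  rw [e]
  exact R.mul_mem (R.mul_mem (R.mul_mem (R.mul_mem hr (mem_conj_normalizer (hD hd) hr'))
    (hDD (Subgroup.commutator_mem_commutator hd hd')))
    (mem_conj_normalizer (hD hd') (R.inv_mem hr))) (R.inv_mem hr')

omit [Finite X] in
theorem smul_commutator (g : X) (A B : Subgroup X) :
    MulAut.conj g • ⁅A, B⁆ = ⁅MulAut.conj g • A, MulAut.conj g • B⁆ :=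
  Subgroup.map_commutator A B _

/-- The bound inside a group of prime power order. -/
theorem relIndex_dvd_pgroup {p : ℕ} [Fact p.Prime] (E : Subgroup X) [IsMulCommutative E] (hE : ¬ IsCyclic E)
    (P : Subgroup X) (hP : IsPGroup p P) (hEP : E ≤ normalizer (P : Set X))
    (hcop : (Nat.card E).Coprime (Nat.card P)) :
    ∀ R : Subgroup X, R ≤ P → E ≤ normalizer (R : Set X) →
      R.relIndex P ∣ ∏ e ∈ nonOne E, R.relIndex (P ⊓ centralizer ({e} : Set X)) := by
  suffices H : ∀ n : ℕ, ∀ R : Subgroup X, R.relIndex P = n → R ≤ P → E ≤ normalizer (R : Set X) →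
      R.relIndex P ∣ ∏ e ∈ nonOne E, R.relIndex (P ⊓ centralizer ({e} : Set X)) from
    fun R => H _ R rfl
  intro n
  induction n using Nat.strong_induction_on with
  | _ n ih =>
  intro R hn hRP hER
  rcases hRP.eq_or_lt with rfl | hlt
  · simp
  set N := P ⊓ normalizer (R : Set X) with hN
  have hnil := hP.isNilpotent
  have hNR : ¬ N ≤ R := by
    intro hle
    have hlt' : R.subgroupOf P < ⊤ :=
      lt_top_iff_ne_top.mpr fun h => hlt.not_ge (Subgroup.subgroupOf_eq_top.mp h)
    obtain ⟨x, hx, hxR⟩ := Set.exists_of_ssubset (Group.normalizerCondition_of_isNilpotent _ hlt')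
    refine hxR (hle ⟨x.2, ?_⟩)
    show (x : X) ∈ normalizer (R : Set X)
    rw [SetLike.mem_coe, Subgroup.mem_normalizer_iff] at hx
    rw [Subgroup.mem_normalizer_iff]
    intro y
    constructor
    · intro hy; exact (hx ⟨y, hRP hy⟩).mp hy
    · intro hy
      have hy' : y ∈ P := by
        have := P.mul_mem (P.mul_mem (P.inv_mem x.2) (hRP hy)) x.2
        simpa [mul_assoc] using this
      exact (hx ⟨y, hy'⟩).mpr hy
  let D : ℕ → Subgroup X := fun k => (derivedSeries (↥N) k).map N.subtype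
  have hD0 : D 0 = N := by
    show Subgroup.map N.subtype (derivedSeries (↥N) 0) = N
    rw [derivedSeries_zero, ← MonoidHom.range_eq_map, Subgroup.range_subtype]
  have hDs : ∀ k, D (k + 1) = ⁅D k, D k⁆ := fun k => by
    show Subgroup.map N.subtype (derivedSeries (↥N) (k + 1)) = _
    rw [derivedSeries_succ, Subgroup.map_commutator]
  have hDN : ∀ k, D k ≤ N := fun k => Subgroup.map_subtype_le _
  have hDE : ∀ k, E ≤ normalizer (D k : Set X) := by
    intro k
    induction k with
    | zero =>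
      rw [hD0, hN]
      intro e he
      rw [mem_normalizer_iff_smul, Subgroup.smul_inf, normalizer_le_smul hEP he]
      congr 1
      refine normalizer_le_smul (A := E) (fun a ha => ?_) he
      rw [mem_normalizer_iff_smul]
      have h1 : MulAut.conj a • R = R := normalizer_le_smul hER ha
      ext y
      rw [mem_smul_conj, Subgroup.mem_normalizer_iff, Subgroup.mem_normalizer_iff]
      have hr : ∀ z, z ∈ R ↔ a⁻¹ * z * a ∈ R := fun z => by
        conv_lhs => rw [← h1]
        exact mem_smul_conj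
      constructor
      · intro h z
        rw [hr z, hr (y * z * y⁻¹), h (a⁻¹ * z * a)]
        simp [mul_assoc]
      · intro h z
        have := h (a * z * a⁻¹)
        rw [hr (a * z * a⁻¹), hr (y * (a * z * a⁻¹) * y⁻¹)] at this
        simpa [mul_assoc] using this
    | succ k ihk =>
      intro e he
      rw [mem_normalizer_iff_smul, hDs, smul_commutator, normalizer_le_smul ihk he]
  obtain ⟨d, hd⟩ : ∃ d, D d ≤ R := by
    obtain ⟨d, hd⟩ := (hP.to_le inf_le_left : IsPGroup p N).isNilpotent |> fun h =>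
      (@IsNilpotent.to_isSolvable _ _ h).solvable
    exact ⟨d, by
      show Subgroup.map N.subtype (derivedSeries (↥N) d) ≤ R
      rw [hd, Subgroup.map_bot]; exact bot_le⟩
  classical
  have hex : ∃ d, D d ≤ R := ⟨d, hd⟩
  have hfind0 : Nat.find hex ≠ 0 := fun h => hNR (hD0 ▸ h ▸ Nat.find_spec hex)
  obtain ⟨k, hk⟩ := Nat.exists_eq_succ_of_ne_zero hfind0
  have hk1 : ⁅D k, D k⁆ ≤ R := by
    have h1 := Nat.find_spec hex
    rw [hk, Nat.succ_eq_add_one, hDs] at h1
    exact h1
  have hk0 : ¬ D k ≤ R := Nat.find_min hex (hk ▸ Nat.lt_succ_self k)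
  set T := R ⊔ D k with hTdef
  have hTP : T ≤ P := sup_le hRP ((hDN k).trans inf_le_left)
  have hRT : R ≤ T := le_sup_left
  have hDR : D k ≤ normalizer (R : Set X) := (hDN k).trans inf_le_right
  have hET : E ≤ normalizer (T : Set X) := fun e he => by
    rw [mem_normalizer_iff_smul, hTdef, Subgroup.smul_sup, normalizer_le_smul hER he,
      normalizer_le_smul (hDE k) he]
  have hstep := relIndex_dvd_step E T R hE hET (hcop.coprime_dvd_right (Subgroup.card_dvd_of_le hTP))
    hRT (commutator_sup_le hDR hk1)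
  have hmul := Subgroup.relIndex_mul_relIndex R T P hRT hTP
  have hgt : 1 < R.relIndex T := by
    rcases Nat.lt_or_ge 1 (R.relIndex T) with h | h
    · exact h
    · exfalso
      have h0 : R.relIndex T ≠ 0 := Subgroup.index_ne_zero_of_finite
      have hTR : T ≤ R := Subgroup.relIndex_eq_one.mp (by omega)
      exact hk0 (le_sup_right.trans hTR)
  have hlt2 : T.relIndex P < n := by
    rw [← hn, ← hmul]
    exact lt_mul_of_one_lt_left (Nat.pos_of_ne_zero Subgroup.index_ne_zero_of_finite) hgt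
  have hrec := ih _ hlt2 T rfl hTP hET
  rw [← hmul]
  refine (mul_dvd_mul hstep hrec).trans (dvd_of_eq ?_)
  rw [← Finset.prod_mul_distrib]
  refine Finset.prod_congr rfl fun e _ => ?_
  set C := centralizer ({e} : Set X)
  rw [← Subgroup.inf_relIndex_right R (T ⊓ C), ← Subgroup.inf_relIndex_right T (P ⊓ C),
    ← Subgroup.inf_relIndex_right R (P ⊓ C)]
  have e1 : R ⊓ (T ⊓ C) = R ⊓ (P ⊓ C) := by
    rw [← inf_assoc, ← inf_assoc, inf_of_le_left hRT, inf_of_le_left hRP]
  have e2 : T ⊓ (P ⊓ C) = T ⊓ C := by rw [← inf_assoc, inf_of_le_left hTP]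
  rw [e1, e2]
  exact Subgroup.relIndex_mul_relIndex _ _ _ (e1 ▸ inf_le_right) (inf_le_inf_right _ hTP)

/-- An invariant Sylow subgroup meets a fixed point subgroup in a Sylow subgroup. -/
theorem isSylowIn_inf_centralizer {p : ℕ} [Fact p.Prime] (H R : Subgroup X) (e : X)
    (hR : IsSylowIn p R H) (heH : e ∈ normalizer (H : Set X)) (heR : e ∈ normalizer (R : Set X))
    (hcop : (orderOf e).Coprime (Nat.card H)) :
    IsSylowIn p (R ⊓ centralizer ({e} : Set X)) (H ⊓ centralizer ({e} : Set X)) := by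
  have hsol : Group.IsSolvable (zpowers e) := by
    haveI : IsMulCommutative (zpowers e) := inferInstance
    exact isSolvable_of_comm fun a b => mul_comm' a b
  have hc : centralizer ({e} : Set X) = centralizer ((zpowers e : Subgroup X) : Set X) :=
    centralizer_singleton_eq_zpowers e
  have hcop' : (Nat.card (zpowers e)).Coprime (Nat.card H) := by rwa [Nat.card_zpowers]
  have hAH : zpowers e ≤ normalizer (H : Set X) := zpowers_le.mpr heH
  obtain ⟨U, hU⟩ := exists_isSylowIn p (H ⊓ centralizer ({e} : Set X))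
  have hAU : zpowers e ≤ normalizer (U : Set X) := zpowers_le.mpr (by
    rw [Subgroup.mem_normalizer_iff]
    intro y
    constructor
    · intro hy
      rw [← Subgroup.mem_centralizer_singleton_iff.mp (hU.1 hy).2, mul_inv_cancel_right]
      exact hy
    · intro hy
      have h1 := Subgroup.mem_centralizer_singleton_iff.mp (hU.1 hy).2
      have h2 : y = e * y * e⁻¹ := by
        have h3 : e * (e * y * e⁻¹) = e * y := by rw [← h1]; group
        exact (mul_left_cancel h3).symm
      rwa [h2])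
  obtain ⟨Y, hY, hYA, hUY⟩ := exists_invariant_sylow_ge (zpowers e) H hAH hcop' (Or.inl hsol)
    (hU.1.trans inf_le_left) hU.2.1 hAU
  obtain ⟨c, hc', hcY⟩ := invariant_sylow_conj (zpowers e) H hAH hcop' (Or.inl hsol) hR hY
    (zpowers_le.mpr heR) hYA
  rw [← hc] at hc'
  have hcfix : MulAut.conj c • (H ⊓ centralizer ({e} : Set X)) = H ⊓ centralizer ({e} : Set X) :=
    conj_smul_eq_self_of_mem hc'
  have hUeq : U = Y ⊓ centralizer ({e} : Set X) :=
    hU.eq_of_le (le_inf hUY (hU.1.trans inf_le_right)) (inf_le_inf_right _ hY.1) (hY.2.1.to_le inf_le_left)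
  have : IsSylowIn p (MulAut.conj c⁻¹ • U) (H ⊓ centralizer ({e} : Set X)) := hU.smul (by
    rw [map_inv, inv_smul_eq_iff, hcfix])
  convert this using 1
  rw [hUeq, ← hcY, Subgroup.smul_inf, conj_smul_conj_smul, inv_mul_cancel, map_one, one_smul,
    conj_smul_eq_self_of_mem ((centralizer ({e} : Set X)).inv_mem hc'.2)]

/-- The index bound. -/
theorem relIndex_dvd_prod (E K H : Subgroup X) [IsMulCommutative E] (hE : ¬ IsCyclic E)
    (hEK : E ≤ normalizer (K : Set X)) (hEH : E ≤ normalizer (H : Set X))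
    (hcop : (Nat.card E).Coprime (Nat.card K)) (hHK : H ≤ K) :
    H.relIndex K ∣ ∏ e ∈ nonOne E, H.relIndex (K ⊓ centralizer ({e} : Set X)) := by
  have hsol : Group.IsSolvable E := isSolvable_of_comm fun a b => mul_comm' a b
  refine (Nat.dvd_iff_prime_pow_dvd_dvd _ _).mpr fun p k hp hk => ?_
  haveI := Fact.mk hp
  have hcopH : (Nat.card E).Coprime (Nat.card H) := hcop.coprime_dvd_right (Subgroup.card_dvd_of_le hHK)
  obtain ⟨R, hR, hRE⟩ := exists_invariant_sylow E H hEH hcopH (Or.inl hsol) p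
  obtain ⟨P, hP, hPE, hRP⟩ := exists_invariant_sylow_ge E K hEK hcop (Or.inl hsol)
    (hR.1.trans hHK) hR.2.1 hRE
  have key := relIndex_dvd_pgroup E hE P hP.2.1 hPE
    (hcop.coprime_dvd_right (Subgroup.card_dvd_of_le hP.1)) R hRP hRE
  have hcard : ∀ (A B : Subgroup X), A ≤ B → Nat.card A * A.relIndex B = Nat.card B := fun A B h => by
    rw [← Subgroup.relIndex_bot_left, ← Subgroup.relIndex_bot_left,
      Subgroup.relIndex_mul_relIndex _ _ _ bot_le h]
  have hv : ∀ (A B : Subgroup X), A ≤ B → (Nat.card A).factorization p + (A.relIndex B).factorization p =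
      (Nat.card B).factorization p := fun A B h => by
    have e := Nat.factorization_mul (Nat.card_pos (α := A)).ne'
      (Subgroup.index_ne_zero_of_finite : A.relIndex B ≠ 0)
    rw [← hcard A B h]
    exact (DFunLike.congr_fun e p).symm
  have hk' : k ≤ (H.relIndex K).factorization p :=
    (hp.pow_dvd_iff_le_factorization Subgroup.index_ne_zero_of_finite).mp hk
  have hRPi : R.relIndex P = p ^ (H.relIndex K).factorization p := by
    refine Nat.eq_of_mul_eq_mul_left (Nat.card_pos (α := R)) ?_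
    rw [hcard R P hRP, hR.card, hP.card, ← pow_add, hv H K hHK]
  refine (pow_dvd_pow p hk').trans (hRPi ▸ key.trans (Finset.prod_dvd_prod_of_dvd _ _ fun e he => ?_))
  obtain ⟨heE, -⟩ := mem_nonOne.mp he
  have hco : ∀ {L : Subgroup X}, L ≤ K → (orderOf e).Coprime (Nat.card L) := fun hL =>
    (hcop.coprime_dvd_right (Subgroup.card_dvd_of_le hL)).coprime_dvd_left
      (Subgroup.orderOf_dvd_natCard _ heE)
  have hRC := isSylowIn_inf_centralizer H R e hR (hEH heE) (hRE heE) (hco hHK)
  have hPC := isSylowIn_inf_centralizer K P e hP (hEK heE) (hPE heE) (hco le_rfl)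
  set C := centralizer ({e} : Set X)
  rw [← Subgroup.inf_relIndex_right R (P ⊓ C), ← Subgroup.inf_relIndex_right H (K ⊓ C)]
  have e1 : R ⊓ (P ⊓ C) = R ⊓ C := by rw [← inf_assoc, inf_of_le_left hRP]
  have e2 : H ⊓ (K ⊓ C) = H ⊓ C := by rw [← inf_assoc, inf_of_le_left hHK]
  rw [e1, e2]
  have hle : R ⊓ C ≤ P ⊓ C := inf_le_inf_right _ hRP
  have hle' : H ⊓ C ≤ K ⊓ C := inf_le_inf_right _ hHK
  have e3 : (R ⊓ C).relIndex (P ⊓ C) = p ^ ((H ⊓ C).relIndex (K ⊓ C)).factorization p := by
    refine Nat.eq_of_mul_eq_mul_left (Nat.card_pos (α := ↥(R ⊓ C))) ?_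
    rw [hcard _ _ hle, hRC.card, hPC.card, ← pow_add, hv _ _ hle']
  rw [e3]
  exact Nat.ordProj_dvd _ _

end Cfsg.Agent.Grp.FixBFC
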