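import Mathlib

/-!
Neumann's bound for finite groups with bounded conjugacy classes.
-/

set_option autoImplicit false

namespace Cfsg.Agent.Grp.FixBFC

variable {G : Type*} [Group G]

/-- The conjugates of an element. -/
def conjs (a : G) : Set G := Set.range fun g : G => g * a * g⁻¹

theorem mem_centralizer_self_iff {a g : G} :
    g ∈ Subgroup.centralizer ({a} : Set G) ↔ g * a * g⁻¹ = a := by
  rw [Subgroup.mem_centralizer_singleton_iff, mul_inv_eq_iff_eq_mul]

theorem card_conjs [Finite G] (a : G) :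
    Nat.card (conjs a) = (Subgroup.centralizer ({a} : Set G)).index := by
  set C := Subgroup.centralizer ({a} : Set G) with hC
  let f : G ⧸ C → conjs a := fun q => ⟨q.out * a * q.out⁻¹, ⟨q.out, rfl⟩⟩
  rw [Subgroup.index_eq_card]
  refine (Nat.card_congr (Equiv.ofBijective f ⟨fun q q' e => ?_, ?_⟩)).symm
  · have e' : q.out * a * q.out⁻¹ = q'.out * a * q'.out⁻¹ := congrArg Subtype.val e
    rw [← q.out_eq', ← q'.out_eq', QuotientGroup.eq]; refine mem_centralizer_self_iff.mpr ?_
    calc q.out⁻¹ * q'.out * a * (q.out⁻¹ * q'.out)⁻¹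
        = q.out⁻¹ * (q'.out * a * q'.out⁻¹) * q.out := by group
      _ = a := by rw [← e']; group
  · rintro ⟨_, g, rfl⟩
    refine ⟨QuotientGroup.mk g, Subtype.ext ?_⟩
    show (QuotientGroup.mk g : G ⧸ C).out * a * ((QuotientGroup.mk g : G ⧸ C).out)⁻¹ = g * a * g⁻¹
    obtain ⟨c, hc⟩ := QuotientGroup.mk_out_eq_mul C g
    have hca := mem_centralizer_self_iff.mp c.2
    rw [hc]
    calc g * (c : G) * a * (g * (c : G))⁻¹ = g * ((c : G) * a * (c : G)⁻¹) * g⁻¹ := by group
      _ = g * a * g⁻¹ := by rw [hca]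

/-- The bound on the derived subgroup. -/
def bfcBound (n : ℕ) : ℕ := (Finset.range (n ^ n * (n * n * n) + 1)).sup Subgroup.cardCommutatorBound

theorem card_commutatorSet_le [Finite G] {n : ℕ}
    (h : ∀ g : G, (Subgroup.centralizer ({g} : Set G)).index ≤ n) :
    Nat.card (commutatorSet G) ≤ n ^ n * (n * n * n) := by
  classical
  have := Fintype.ofFinite G
  obtain ⟨a, ha⟩ := Finite.exists_max fun g : G => (Subgroup.centralizer ({g} : Set G)).index
  let R : Finset G := Finset.univ.image fun g : G => g * a * g⁻¹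
  have hcardR : ∀ x : G, (Finset.univ.image fun g : G => g * x * g⁻¹).card =
      (Subgroup.centralizer ({x} : Set G)).index := by
    intro x
    rw [← card_conjs x, ← Nat.card_eq_finsetCard]
    exact Nat.card_congr (Equiv.subtypeEquivRight fun y => by simp [conjs])
  have hRmem : ∀ y ∈ R, ∃ g : G, g * a * g⁻¹ = y := fun y hy => by simpa [R] using hy
  choose! b hb using hRmem
  let U : Subgroup G := ⨅ y : {y // y ∈ R}, Subgroup.centralizer ({b y} : Set G)
  have hRn : R.card ≤ n := by rw [hcardR a]; exact h a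
  have hUi : U.index ≤ n ^ n := by
    refine (Subgroup.index_iInf_le _).trans ?_
    calc ∏ y : {y // y ∈ R}, (Subgroup.centralizer ({b y} : Set G)).index
        ≤ ∏ _y : {y // y ∈ R}, n := Finset.prod_le_prod' fun y _ => h _
      _ = n ^ R.card := by simp
      _ ≤ n ^ n := by
        rcases Nat.eq_zero_or_pos n with hn | hn
        · exfalso
          have h1 := h 1
          exact Subgroup.index_ne_zero_of_finite (Nat.le_zero.mp (hn ▸ h1))
        · exact Nat.pow_le_pow_right hn hRn
  let Y : Finset G := (R ×ˢ R).image fun p => p.1 * p.2⁻¹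
  have hY : Y.card ≤ n * n :=
    Finset.card_image_le.trans (by rw [Finset.card_product]; exact Nat.mul_le_mul hRn hRn)
  have hkey : ∀ u ∈ U, ∀ g : G, u⁻¹ * g * u * g⁻¹ ∈ Y := by
    intro u hu g
    let Z : Finset G := Finset.univ.image fun k : G => k * (u * a) * k⁻¹
    have hsub : R.image (fun y => u * y) ⊆ Z := by
      intro z hz
      obtain ⟨y, hy, rfl⟩ := Finset.mem_image.mp hz
      refine Finset.mem_image.mpr ⟨b y, Finset.mem_univ _, ?_⟩
      have huy : u ∈ Subgroup.centralizer ({b y} : Set G) := Subgroup.mem_iInf.mp hu ⟨y, hy⟩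
      have hc := Subgroup.mem_centralizer_singleton_iff.mp huy
      calc b y * (u * a) * (b y)⁻¹ = (b y * u) * a * (b y)⁻¹ := by group
        _ = u * (b y * a * (b y)⁻¹) := by rw [← hc]; group
        _ = u * y := by rw [hb y hy]
    have heq : R.image (fun y => u * y) = Z := by
      refine Finset.eq_of_subset_of_card_le hsub ?_
      rw [Finset.card_image_of_injective _ (mul_right_injective u), hcardR a, hcardR (u * a)]
      exact ha (u * a)
    have hz : g * (u * a) * g⁻¹ ∈ R.image (fun y => u * y) :=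
      heq ▸ Finset.mem_image.mpr ⟨g, Finset.mem_univ _, rfl⟩
    obtain ⟨y, hy, hye⟩ := Finset.mem_image.mp hz
    refine Finset.mem_image.mpr ⟨(y, g * a * g⁻¹), Finset.mem_product.mpr ⟨hy, ?_⟩, ?_⟩
    · exact Finset.mem_image.mpr ⟨g, Finset.mem_univ _, rfl⟩
    · show y * (g * a * g⁻¹)⁻¹ = u⁻¹ * g * u * g⁻¹
      rw [show y = u⁻¹ * (g * (u * a) * g⁻¹) by rw [← hye]; group]
      group
  have := Fintype.ofFinite (G ⧸ U)
  let S : G ⧸ U → Finset G := fun q =>
    ((Y.image fun z => q.out * z * q.out⁻¹) ×ˢ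
      (Finset.univ.image fun k : G => k * q.out⁻¹ * k⁻¹)).image fun p => p.1 * (q.out * p.2)
  have hsub : commutatorSet G ⊆ ↑(Finset.univ.biUnion S) := by
    rintro _ ⟨g₁, g, rfl⟩
    set q : G ⧸ U := QuotientGroup.mk g₁ with hq
    have hu : q.out⁻¹ * g₁ ∈ U := QuotientGroup.eq.mp (by rw [QuotientGroup.out_eq', hq])
    set u := q.out⁻¹ * g₁ with hudef
    have hy := hkey u⁻¹ (U.inv_mem hu) g
    rw [Finset.mem_coe, Finset.mem_biUnion]
    refine ⟨q, Finset.mem_univ _, Finset.mem_image.mpr
      ⟨(q.out * ((u⁻¹)⁻¹ * g * u⁻¹ * g⁻¹) * q.out⁻¹, g * q.out⁻¹ * g⁻¹), Finset.mem_product.mpr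
        ⟨Finset.mem_image.mpr ⟨_, hy, rfl⟩, Finset.mem_image.mpr ⟨g, Finset.mem_univ _, rfl⟩⟩, ?_⟩⟩
    rw [show g₁ = q.out * u by rw [hudef]; group, commutatorElement_def]
    group
  calc Nat.card (commutatorSet G)
      ≤ Nat.card ↑(↑(Finset.univ.biUnion S) : Set G) := Nat.card_mono (Set.toFinite _) hsub
    _ = (Finset.univ.biUnion S).card := Nat.card_eq_finsetCard _
    _ ≤ ∑ q : G ⧸ U, (S q).card := Finset.card_biUnion_le
    _ ≤ ∑ _q : G ⧸ U, n * n * n := by
        refine Finset.sum_le_sum fun q _ => Finset.card_image_le.trans ?_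
        rw [Finset.card_product]
        exact Nat.mul_le_mul (Finset.card_image_le.trans hY) ((hcardR _).trans_le (h _))
    _ = U.index * (n * n * n) := by simp [Subgroup.index_eq_card, Nat.card_eq_fintype_card]
    _ ≤ n ^ n * (n * n * n) := Nat.mul_le_mul_right _ hUi

/-- Neumann's theorem for finite groups. -/
theorem card_commutator_le [Finite G] {n : ℕ}
    (h : ∀ g : G, (Subgroup.centralizer ({g} : Set G)).index ≤ n) :
    Nat.card (commutator G) ≤ bfcBound n :=
  (Subgroup.card_commutator_le_of_finite_commutatorSet G).trans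
    (Finset.le_sup (f := Subgroup.cardCommutatorBound)
      (Finset.mem_range.mpr (Nat.lt_succ_of_le (card_commutatorSet_le h))))

end Cfsg.Agent.Grp.FixBFC
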