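import Mathlib
import Cfsg.Agent.Lib.Grp.FixBFC.Class
import Cfsg.Agent.Lib.Grp.FixBFC.Index

/-!
If an elementary abelian group of order `q ^ 3` acts coprimely and the derived subgroups of all fixed point
subgroups are bounded, then so is the derived subgroup of the whole group.
-/

set_option autoImplicit false

namespace Cfsg.Agent.Grp.FixBFC

open scoped Pointwise commutatorElement
open Subgroup

variable {X : Type*} [Group X] [Finite X]

/-- The class size of `x` in `K`. -/
noncomputable def cls (K : Subgroup X) (x : X) : ℕ := (centralizer ({x} : Set X)).relIndex K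

theorem inf_centralizer_le_mul (x y : X) :
    centralizer ({x} : Set X) ⊓ centralizer ({y} : Set X) ≤ centralizer ({x * y} : Set X) := by
  rintro g ⟨hx, hy⟩
  rw [SetLike.mem_coe] at hx hy
  replace hx := mem_centralizer_singleton_iff.mp hx
  replace hy := mem_centralizer_singleton_iff.mp hy
  refine mem_centralizer_singleton_iff.mpr ?_
  calc g * (x * y) = g * x * y := (mul_assoc _ _ _).symm
    _ = x * g * y := by rw [hx]
    _ = x * (g * y) := mul_assoc _ _ _
    _ = x * (y * g) := by rw [hy]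
    _ = x * y * g := (mul_assoc _ _ _).symm

theorem cls_mul_le (K : Subgroup X) (x y : X) : cls K (x * y) ≤ cls K x * cls K y :=
  (relIndex_le_of_le_left (inf_centralizer_le_mul x y) Subgroup.index_ne_zero_of_finite).trans relIndex_inf_le

theorem cls_one (K : Subgroup X) : cls K 1 = 1 :=
  relIndex_eq_one.mpr fun k _ => mem_centralizer_singleton_iff.mpr (by simp)

theorem cls_pos (K : Subgroup X) (x : X) : 0 < cls K x :=
  Nat.pos_of_ne_zero Subgroup.index_ne_zero_of_finite

theorem smul_centralizer_singleton (g x : X) :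
    MulAut.conj g • centralizer ({x} : Set X) = centralizer ({g * x * g⁻¹} : Set X) := by
  ext y
  rw [mem_smul_conj, mem_centralizer_singleton_iff, mem_centralizer_singleton_iff]
  constructor
  · intro h
    calc y * (g * x * g⁻¹) = g * ((g⁻¹ * y * g) * x) * g⁻¹ := by group
      _ = g * (x * (g⁻¹ * y * g)) * g⁻¹ := by rw [h]
      _ = g * x * g⁻¹ * y := by group
  · intro h
    calc g⁻¹ * y * g * x = g⁻¹ * (y * (g * x * g⁻¹)) * g := by group
      _ = g⁻¹ * (g * x * g⁻¹ * y) * g := by rw [h]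
      _ = x * (g⁻¹ * y * g) := by group

theorem cls_conj (K : Subgroup X) {k : X} (hk : k ∈ K) (x : X) : cls K (k * x * k⁻¹) = cls K x := by
  unfold cls
  conv_lhs => rw [← smul_centralizer_singleton, ← conj_smul_eq_self_of_mem (H := K) hk]
  rw [relIndex_smul]

theorem cls_le_commutator (F : Subgroup X) {x : X} (hx : x ∈ F) :
    cls F x ≤ Nat.card ↥(commutator ↥F) := by
  have h1 : cls F x = (centralizer ({(⟨x, hx⟩ : ↥F)} : Set ↥F)).index := by
    unfold cls
    rw [relIndex]
    congr 1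
    ext y
    rw [mem_subgroupOf, mem_centralizer_singleton_iff, mem_centralizer_singleton_iff, Subtype.ext_iff]
    simp
  rw [h1, ← card_conjs]
  refine Nat.card_le_card_of_injective
    (fun y => ⟨(y : ↥F) * (⟨x, hx⟩ : ↥F)⁻¹, ?_⟩) fun y z e => Subtype.ext (by simpa using congrArg Subtype.val e)
  obtain ⟨g, hg⟩ := y.2
  rw [← hg, commutator_def]
  exact commutator_mem_commutator (mem_top g) (mem_top _)

/-- An element lies in a subgroup as soon as all its primary parts do. -/
theorem mem_of_parts {g : X} {S : Subgroup X}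
    (h : ∀ p : ℕ, p.Prime → g ^ (orderOf g / p ^ (orderOf g).factorization p) ∈ S) : g ∈ S := by
  have hle : zpowers g ≤ S ⊓ zpowers g := by
    refine (Subgroup.eq_of_le_of_card_ge inf_le_right (Nat.le_of_dvd Nat.card_pos ?_)).ge
    rw [Nat.card_zpowers]
    refine (Nat.dvd_iff_prime_pow_dvd_dvd _ _).mpr fun p k hp hk => ?_
    have hn : orderOf g ≠ 0 := (orderOf_pos g).ne'
    have hy : g ^ (orderOf g / p ^ (orderOf g).factorization p) ∈ S ⊓ zpowers g :=
      ⟨h p hp, Subgroup.pow_mem _ (mem_zpowers g) _⟩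
    refine dvd_trans ?_ (Subgroup.orderOf_dvd_natCard _ hy)
    have hd : p ^ (orderOf g).factorization p ∣ orderOf g := Nat.ordProj_dvd _ _
    rw [orderOf_pow_of_dvd (Nat.pos_iff_ne_zero.mp (Nat.div_pos (Nat.le_of_dvd (orderOf_pos g) hd)
      (pow_pos hp.pos _))) (Nat.div_dvd_of_dvd hd), Nat.div_div_self hd hn]
    exact pow_dvd_pow p ((hp.pow_dvd_iff_le_factorization hn).mp hk)
  exact (hle (mem_zpowers g)).1

theorem cls_parts_le (K : Subgroup X) (g : X) (s : Finset ℕ) (L : ℕ)
    (hL : ∀ p ∈ s, cls K (g ^ (orderOf g / p ^ (orderOf g).factorization p)) ≤ L) :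
    (⨅ p ∈ s, centralizer ({g ^ (orderOf g / p ^ (orderOf g).factorization p)} : Set X)).relIndex K ≤
      L ^ s.card := by
  classical
  induction s using Finset.induction_on with
  | empty => simp
  | insert p s hps ih =>
    rw [Finset.iInf_insert, Finset.card_insert_of_notMem hps, pow_succ']
    exact relIndex_inf_le.trans (Nat.mul_le_mul (hL p (Finset.mem_insert_self _ _))
      (ih fun r hr => hL r (Finset.mem_insert_of_mem hr)))

/-- If prime power elements have bounded classes, then so do all elements. -/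
theorem cls_le_of_primary (K : Subgroup X) {L : ℕ}
    (hL : ∀ (p : ℕ), p.Prime → ∀ x ∈ K, (∃ k, orderOf x = p ^ k) → cls K x ≤ L) :
    ∀ g ∈ K, cls K g ≤ L ^ (L + 1) := by
  classical
  intro g hg
  have hord : ∀ (x : X) (p : ℕ), p.Prime →
      ∃ k, orderOf (x ^ (orderOf x / p ^ (orderOf x).factorization p)) = p ^ k := by
    intro x p hp
    have hd : p ^ (orderOf x).factorization p ∣ orderOf x := Nat.ordProj_dvd _ _
    refine ⟨(orderOf x).factorization p, ?_⟩
    rw [orderOf_pow_of_dvd (Nat.pos_iff_ne_zero.mp (Nat.div_pos (Nat.le_of_dvd (orderOf_pos x) hd)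
      (pow_pos hp.pos _))) (Nat.div_dvd_of_dvd hd), Nat.div_div_self hd (orderOf_pos x).ne']
  have hbig : ∀ (p : ℕ), p.Prime → L < p → ∀ y ∈ K, (∃ k, orderOf y = p ^ k) →
      K ≤ centralizer ({y} : Set X) := by
    intro p hp hpL y hy ⟨k, hk⟩ x hx
    refine mem_of_parts fun r hr => ?_
    set x' := x ^ (orderOf x / r ^ (orderOf x).factorization r)
    have hx' : x' ∈ K := K.pow_mem hx _
    haveI := Fact.mk hp
    obtain ⟨i, hi⟩ := (IsPGroup.of_card (n := k) (by rw [Nat.card_zpowers, hk]) :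
      IsPGroup p ↥(zpowers y)).index ((centralizer ({x'} : Set X)).subgroupOf (zpowers y))
    have hle : (centralizer ({x'} : Set X)).relIndex (zpowers y) ≤ cls K x' :=
      relIndex_le_of_le_right (zpowers_le.mpr hy) Subgroup.index_ne_zero_of_finite
    have h1 : (centralizer ({x'} : Set X)).relIndex (zpowers y) = 1 := by
      rcases i with _ | i
      · rw [relIndex, hi, pow_zero]
      · exfalso
        have h2 : p ^ (i + 1) ≤ L := by rw [← hi]; exact hle.trans (hL r hr x' hx' (hord x r hr))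
        have := Nat.le_self_pow (n := i + 1) (by omega) p
        omega
    exact mem_centralizer_singleton_iff.mpr
      (mem_centralizer_singleton_iff.mp (relIndex_eq_one.mp h1 (mem_zpowers y))).symm
  set s := Finset.range (L + 1)
  have hLpos : ∀ p ∈ s, cls K (g ^ (orderOf g / p ^ (orderOf g).factorization p)) ≤ L := by
    intro p _
    by_cases hp : p.Prime
    · exact hL p hp _ (K.pow_mem hg _) (hord g p hp)
    · rw [Nat.factorization_eq_zero_of_not_prime _ hp, pow_zero, Nat.div_one, pow_orderOf_eq_one, cls_one]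
      exact (cls_pos K 1).trans_le (hL 2 Nat.prime_two 1 K.one_mem ⟨0, by simp⟩)
  have h := cls_parts_le K g s L hLpos
  rw [Finset.card_range] at h
  refine le_trans ?_ h
  unfold cls
  rw [← inf_relIndex_right (centralizer ({g} : Set X)) K,
    ← inf_relIndex_right (⨅ p ∈ s, centralizer ({g ^ (orderOf g / p ^ (orderOf g).factorization p)} : Set X)) K]
  refine relIndex_le_of_le_left ?_ Subgroup.index_ne_zero_of_finite
  rintro x ⟨hx, hxK⟩
  refine ⟨mem_centralizer_singleton_iff.mpr ?_, hxK⟩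
  refine (mem_centralizer_singleton_iff.mp (mem_of_parts (g := g) (S := centralizer ({x} : Set X))
    fun p hp => ?_)).symm
  by_cases hpL : p ∈ s
  · exact mem_centralizer_singleton_iff.mpr
      (mem_centralizer_singleton_iff.mp (Subgroup.mem_iInf.mp (Subgroup.mem_iInf.mp hx p) hpL)).symm
  · refine mem_centralizer_singleton_iff.mpr (mem_centralizer_singleton_iff.mp
      (hbig p hp ?_ _ (K.pow_mem hg _) (hord g p hp) hxK)).symm
    simp only [s, Finset.mem_range, not_lt] at hpL
    omega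

/-- Set products of a list of subgroups. -/
def prodSet {ι : Type*} (f : ι → Subgroup X) : List ι → Set X
  | [] => {1}
  | i :: l => (f i : Set X) * prodSet f l

theorem prodSet_le {ι : Type*} {f : ι → Subgroup X} {T : Subgroup X} (h : ∀ i, f i ≤ T) :
    ∀ l : List ι, prodSet f l ⊆ (T : Set X)
  | [] => by simp [prodSet]
  | i :: l => by
    rintro _ ⟨d, hd, g, hg, rfl⟩
    exact T.mul_mem (h i hd) (prodSet_le h l hg)

theorem cls_prodSet_le {ι : Type*} (K : Subgroup X) (f : ι → Subgroup X) (M : ℕ) :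
    ∀ l : List ι, (∀ i ∈ l, ∀ x ∈ f i, cls K x ≤ M) → ∀ g ∈ prodSet f l, cls K g ≤ M ^ l.length
  | [], _, g, hg => by
    rw [prodSet, Set.mem_singleton_iff] at hg
    simp [hg, cls_one]
  | i :: l, h, _, ⟨d, hd, g, hg, rfl⟩ => by
    rw [List.length_cons, pow_succ']
    exact (cls_mul_le K d g).trans (Nat.mul_le_mul (h i List.mem_cons_self d hd)
      (cls_prodSet_le K f M l (fun j hj => h j (List.mem_cons_of_mem _ hj)) g hg))

theorem mem_sup_prodSet {ι : Type*} {L N : Subgroup X} (f : ι → Subgroup X) (hfL : ∀ i, f i ≤ L)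
    (hNL : N ≤ L) (hLN : ⁅L, L⁆ ≤ N) :
    ∀ l : List ι, ∀ g ∈ (N ⊔ ⨆ i ∈ l, f i), ∃ r ∈ prodSet f l, r⁻¹ * g ∈ N
  | [], g, hg => ⟨1, rfl, by simpa using hg⟩
  | i :: l, g, hg => by
    have hnorm : L ≤ normalizer ((N ⊔ ⨆ j ∈ l, f j : Subgroup X) : Set X) := by
      rw [le_normalizer_iff_commutator_le_left]
      exact (commutator_mono (sup_le hNL (iSup₂_le fun j _ => hfL j)) le_rfl).trans (hLN.trans le_sup_left)
    have hle : (N ⊔ ⨆ j ∈ (i :: l), f j) ≤ f i ⊔ (N ⊔ ⨆ j ∈ l, f j) := by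
      refine sup_le (le_sup_left.trans le_sup_right) (iSup₂_le fun j hj => ?_)
      rcases List.mem_cons.mp hj with rfl | hj'
      · exact le_sup_left
      · exact le_trans (le_iSup₂_of_le j hj' le_rfl) (le_sup_right.trans le_sup_right)
    have h1 : g ∈ (↑(f i ⊔ (N ⊔ ⨆ j ∈ l, f j)) : Set X) := hle hg
    rw [coe_mul_of_left_le_normalizer_right _ _ ((hfL i).trans hnorm)] at h1
    obtain ⟨d, hd, s, hs, rfl⟩ := Set.mem_mul.mp h1
    obtain ⟨r, hr, hrs⟩ := mem_sup_prodSet f hfL hNL hLN l s hs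
    exact ⟨d * r, ⟨d, hd, r, hr, rfl⟩, by rw [show (d * r)⁻¹ * (d * s) = r⁻¹ * s by group]; exact hrs⟩

theorem prodSet_merge {ι : Type*} {T L N : Subgroup X} (f f' : ι → Subgroup X) (hfT : ∀ i, f i ≤ T)
    (hf'f : ∀ i, f' i ≤ f i) (hf'L : ∀ i, f' i ≤ L) (hLT : L ≤ T) (hN : ⁅T, L⁆ ≤ N)
    (hTN : T ≤ normalizer (N : Set X)) :
    ∀ l : List ι, ∀ g ∈ prodSet f l, ∀ r ∈ prodSet f' l, ∃ h ∈ prodSet f l, h⁻¹ * (g * r) ∈ N
  | [], g, hg, r, hr => by
    rw [prodSet, Set.mem_singleton_iff] at hg hr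
    exact ⟨1, rfl, by simp [hg, hr]⟩
  | i :: l, _, ⟨d, hd, g, hg, rfl⟩, _, ⟨c, hc, r, hr, rfl⟩ => by
    obtain ⟨h, hh, hhn⟩ := prodSet_merge f f' hfT hf'f hf'L hLT hN hTN l g hg r hr
    refine ⟨d * c * h, ⟨d * c, (f i).mul_mem hd (hf'f i hc), h, hh, rfl⟩, ?_⟩
    have hgT : g ∈ T := prodSet_le hfT l hg
    have hrT : r ∈ T := hLT (prodSet_le hf'L l hr)
    have hn : g⁻¹ * c⁻¹ * g * c ∈ N := by
      have h2 : ⁅g⁻¹, c⁻¹⁆ ∈ N :=
        hN (commutator_mem_commutator (T.inv_mem hgT) (L.inv_mem (hf'L i hc)))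
      simpa [commutatorElement_def] using h2
    have h3 := mem_conj_normalizer' (hTN hrT) hn
    rw [show (d * c * h)⁻¹ * (d * g * (c * r)) =
      (h⁻¹ * (g * r)) * (r⁻¹ * (g⁻¹ * c⁻¹ * g * c) * r) by group]
    exact N.mul_mem hhn h3

/-- In a nilpotent group `T` generated suitably in every central factor, products of bounded length suffice. -/
theorem mem_prodSet {ι : Type*} (T : Subgroup X) (hnil : Group.IsNilpotent T) (f : ι → Subgroup X)
    (A : Subgroup X) (hA : A ≤ normalizer (T : Set X)) (hfT : ∀ i, f i ≤ T) (l : List ι)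
    (hgen : ∀ L : Subgroup X, L ≤ T → A ≤ normalizer (L : Set X) → L ≤ ⨆ i ∈ l, L ⊓ f i) :
    ∀ g ∈ T, g ∈ prodSet f l := by
  let Ls : ℕ → Subgroup X := fun j => Nat.rec T (fun _ S => ⁅S, T⁆) j
  have hLT : ∀ j, Ls j ≤ T := by
    intro j
    induction j with
    | zero => exact le_rfl
    | succ j ih => exact (commutator_mono ih le_rfl).trans (le_normalizer_iff_commutator_le_left.mp le_normalizer)
  have hTL : ∀ j, T ≤ normalizer (SetLike.coe (Ls j)) := by
    intro j
    induction j with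
    | zero => exact le_normalizer
    | succ j ih => exact Grp.right_le_normalizer_commutator T (Ls j)
  have hdec : ∀ j, Ls (j + 1) ≤ Ls j := fun j => commutator_le_left_of_le_normalizer (hTL j)
  have hLA : ∀ j, A ≤ normalizer (SetLike.coe (Ls j)) := by
    intro j
    induction j with
    | zero => exact hA
    | succ j ih =>
      intro a ha
      rw [mem_normalizer_iff_smul]
      show MulAut.conj a • ⁅Ls j, T⁆ = ⁅Ls j, T⁆
      rw [smul_commutator, normalizer_le_smul ih ha, normalizer_le_smul hA ha]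
  have hls : ∀ j, T.lowerCentralSeries j = Ls j := by
    intro j
    induction j with
    | zero => rfl
    | succ j ih => rw [Subgroup.lowerCentralSeries_succ, ih]
  obtain ⟨c, hc⟩ := (Subgroup.isNilpotent_iff_lowerCentralSeries T).mp hnil
  have hbot : Ls c = ⊥ := (hls c).symm.trans hc
  suffices h : ∀ j, ∀ g ∈ T, ∃ r ∈ prodSet f l, r⁻¹ * g ∈ Ls j by
    intro g hg
    obtain ⟨r, hr, hrg⟩ := h c g hg
    rw [hbot, mem_bot, inv_mul_eq_one] at hrg
    exact hrg ▸ hr
  intro j
  induction j with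
  | zero =>
    intro g hg
    have hone : ∀ l' : List ι, (1 : X) ∈ prodSet f l' := by
      intro l'
      induction l' with
      | nil => rfl
      | cons i l' ih => exact ⟨1, (f i).one_mem, 1, ih, one_mul 1⟩
    exact ⟨1, hone l, show (1 : X)⁻¹ * g ∈ T by simpa using hg⟩
  | succ j ih =>
    intro g hg
    obtain ⟨r, hr, hrg⟩ := ih g hg
    have hm : r⁻¹ * g ∈ Ls (j + 1) ⊔ ⨆ i ∈ l, Ls j ⊓ f i :=
      mem_sup_right (hgen (Ls j) (hLT j) (hLA j) hrg)
    obtain ⟨c', hc', hcn⟩ := mem_sup_prodSet (fun i => Ls j ⊓ f i) (fun i => inf_le_left) (hdec j)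
      (commutator_mono le_rfl (hLT j)) l _ hm
    obtain ⟨h, hh, hhn⟩ := prodSet_merge f (fun i => Ls j ⊓ f i) hfT (fun i => inf_le_right)
      (fun i => inf_le_left) (hLT j) (N := Ls (j + 1)) (by rw [commutator_comm])
      (hTL (j + 1)) l r hr c' hc'
    refine ⟨h, hh, ?_⟩
    rw [show h⁻¹ * g = (h⁻¹ * (r * c')) * (c'⁻¹ * (r⁻¹ * g)) by group]
    exact (Ls (j + 1)).mul_mem hhn hcn

/-- The bound on classes. -/
def clsBound (q m : ℕ) : ℕ := (m ^ q ^ 3) ^ (q ^ 3 * q ^ 3)

theorem not_isCyclic_of_two {q : ℕ} {A : Subgroup X} (hexp : ∀ a ∈ A, a ^ q = 1) (hq : q.Prime) {a b : X}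
    (ha : a ∈ A) (hb : b ∈ A) (ha1 : a ≠ 1) (hab : b ∉ zpowers a) {E : Subgroup X} (hEA : E ≤ A)
    (haE : a ∈ E) (hbE : b ∈ E) : ¬ IsCyclic E := by
  intro hcyc
  obtain ⟨⟨g, hgE⟩, hg⟩ := hcyc.exists_generator
  have hEg : E ≤ zpowers g := fun x hx => by
    obtain ⟨i, hi⟩ := mem_zpowers_iff.mp (hg ⟨x, hx⟩)
    exact mem_zpowers_iff.mpr ⟨i, congrArg Subtype.val hi⟩
  have hle : zpowers a ≤ zpowers g := zpowers_le.mpr (hEg haE)
  have heq : zpowers a = zpowers g := by
    refine Subgroup.eq_of_le_of_card_ge hle ?_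
    rw [Nat.card_zpowers, Nat.card_zpowers]
    haveI := Fact.mk hq
    rw [orderOf_eq_prime (hexp a ha) ha1]
    exact orderOf_le_of_pow_eq_one hq.pos (hexp g (hEA hgE))
  exact hab (heq ▸ hEg hbE)

/-- The main bound. -/
theorem card_commutator_le_of_fixed {q m : ℕ} (hq : q.Prime) (K A : Subgroup X)
    (hAK : A ≤ normalizer (K : Set X)) (hA : Nat.card A = q ^ 3) [IsMulCommutative A]
    (hexp : ∀ a ∈ A, a ^ q = 1) (hqK : ¬ q ∣ Nat.card K)
    (hfix : ∀ a ∈ A, a ≠ 1 → Nat.card ↥(commutator ↥(K ⊓ centralizer ({a} : Set X))) ≤ m) :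
    Nat.card ↥(commutator ↥K) ≤ bfcBound (clsBound q m ^ (clsBound q m + 1)) := by
  classical
  haveI := Fact.mk hq
  have hsol : Group.IsSolvable A := isSolvable_of_comm fun a b => mul_comm' a b
  have hcop : (Nat.card A).Coprime (Nat.card K) := by
    rw [hA]; exact ((Nat.Prime.coprime_iff_not_dvd hq).mpr hqK).pow_left 3
  have hcomm : ∀ a ∈ A, ∀ b ∈ A, a * b = b * a := fun a ha b hb =>
    congrArg Subtype.val (mul_comm' (⟨a, ha⟩ : A) ⟨b, hb⟩)
  have hEcomm : ∀ {E : Subgroup X}, E ≤ A → IsMulCommutative E := fun hE =>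
    ⟨⟨fun a b => Subtype.ext (hcomm a (hE a.2) b (hE b.2))⟩⟩
  let I : Finset (X × X) := ((Set.toFinite (A : Set X)).toFinset ×ˢ (Set.toFinite (A : Set X)).toFinset).filter
    fun ab => ab.1 ≠ 1 ∧ ab.2 ∉ zpowers ab.1
  have hI : I.card ≤ q ^ 3 * q ^ 3 := by
    refine (Finset.card_filter_le _ _).trans ?_
    have : (Set.toFinite (A : Set X)).toFinset.card = q ^ 3 := by
      rw [← hA, ← Nat.card_eq_card_finite_toFinset]; rfl
    rw [Finset.card_product, this]
  have hIA : ∀ {ab : X × X}, ab ∈ I → ab.1 ∈ A ∧ ab.2 ∈ A ∧ ab.1 ≠ 1 ∧ ab.2 ∉ zpowers ab.1 := by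
    intro ab h
    simpa [I, and_assoc] using h
  set M := m ^ q ^ 3 with hMdef
  have hclsE : ∀ ab ∈ I, ∀ x ∈ K ⊓ (centralizer ({ab.1} : Set X) ⊓ centralizer ({ab.2} : Set X)),
      cls K x ≤ M := by
    rintro ⟨a, b⟩ hab x ⟨hxK, hxa, hxb⟩
    obtain ⟨ha, hb, ha1, hnb⟩ := hIA hab
    set E := zpowers a ⊔ zpowers b
    have hEA : E ≤ A := sup_le (zpowers_le.mpr ha) (zpowers_le.mpr hb)
    haveI := hEcomm hEA
    have hnc : ¬ IsCyclic E := not_isCyclic_of_two hexp hq ha hb ha1 hnb hEA
      (mem_sup_left (mem_zpowers a)) (mem_sup_right (mem_zpowers b))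
    have hEx : E ≤ centralizer ({x} : Set X) := sup_le
      (zpowers_le.mpr (mem_centralizer_singleton_iff.mpr (mem_centralizer_singleton_iff.mp hxa).symm))
      (zpowers_le.mpr (mem_centralizer_singleton_iff.mpr (mem_centralizer_singleton_iff.mp hxb).symm))
    have hEK : E ≤ normalizer (K : Set X) := hEA.trans hAK
    have hEH : E ≤ normalizer ((K ⊓ centralizer ({x} : Set X) : Subgroup X) : Set X) := fun e he => by
      rw [mem_normalizer_iff_smul, Subgroup.smul_inf, normalizer_le_smul hEK he,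
        conj_smul_eq_self_of_mem (hEx he)]
    have hd := relIndex_dvd_prod E K (K ⊓ centralizer ({x} : Set X)) hnc hEK hEH
      (hcop.coprime_dvd_left (Subgroup.card_dvd_of_le hEA)) inf_le_left
    rw [show cls K x = (K ⊓ centralizer ({x} : Set X)).relIndex K from (inf_relIndex_left K _).symm]
    refine (Nat.le_of_dvd (Finset.prod_pos fun e _ => Nat.pos_of_ne_zero Subgroup.index_ne_zero_of_finite)
      hd).trans ((Finset.prod_le_pow_card _ _ m fun e he => ?_).trans ?_)
    · obtain ⟨heE, he1⟩ := mem_nonOne.mp he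
      set F := K ⊓ centralizer ({e} : Set X)
      have hxF : x ∈ F :=
        ⟨hxK, mem_centralizer_singleton_iff.mpr (mem_centralizer_singleton_iff.mp (hEx heE)).symm⟩
      show (K ⊓ centralizer ({x} : Set X)).relIndex F ≤ m
      rw [show (K ⊓ centralizer ({x} : Set X)).relIndex F = cls F x by
        show _ = (centralizer ({x} : Set X)).relIndex F
        rw [← inf_relIndex_right (K ⊓ centralizer ({x} : Set X)) F,
          ← inf_relIndex_right (centralizer ({x} : Set X)) F]
        congr 1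
        rw [inf_right_comm, inf_of_le_right (inf_le_left : F ≤ K), inf_comm]]
      exact (cls_le_commutator F hxF).trans (hfix e (hEA heE) he1)
    · refine Nat.pow_le_pow_right ?_ ?_
      · exact Nat.card_pos.trans_le (hfix a ha ha1)
      · have hsub : nonOne E ⊆ (Set.toFinite (A : Set X)).toFinset := fun e he =>
          (Set.Finite.mem_toFinset _).mpr (hEA (mem_nonOne.mp he).1)
        refine (Finset.card_le_card hsub).trans (le_of_eq ?_)
        rw [← hA, ← Nat.card_eq_card_finite_toFinset]; rfl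
  have hAne : A ≠ ⊥ := fun h => by
    rw [h, Subgroup.card_bot] at hA
    exact Nat.ne_of_lt (Nat.one_lt_pow (by norm_num) hq.one_lt) hA
  obtain ⟨a₀, ha₀A, ha₀⟩ : ∃ a ∈ A, a ≠ 1 := by
    by_contra h
    push Not at h
    exact hAne ((Subgroup.eq_bot_iff_forall A).mpr h)
  have hm1 : 1 ≤ m := Nat.card_pos.trans_le (hfix a₀ ha₀A ha₀)
  have hM1 : 1 ≤ M := Nat.one_le_pow _ _ hm1
  have hcard1 : ∀ {a : X}, a ∈ A → Nat.card ↥(zpowers a) ≤ q := fun ha => by
    rw [Nat.card_zpowers]; exact orderOf_le_of_pow_eq_one hq.pos (hexp _ ha)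
  have hA2 : ∀ {a b : X}, a ∈ A → b ∈ A → ∃ c ∈ A, c ∉ zpowers a ⊔ zpowers b := by
    intro a b ha hb
    by_contra h
    push Not at h
    have hle : A ≤ zpowers a ⊔ zpowers b := h
    have hnorm : zpowers a ≤ normalizer ((zpowers b : Subgroup X) : Set X) := by
      refine le_trans (zpowers_le.mpr ?_) (centralizer_le_normalizer _)
      exact mem_centralizer_iff.mpr fun y hy => hcomm y (zpowers_le.mpr hb hy) a ha
    have h2 := card_sup_mul_card_inf (H := zpowers a) (N := zpowers b) hnorm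
    have h3 : Nat.card ↥(zpowers a ⊔ zpowers b) ≤ q * q :=
      (Nat.le_mul_of_pos_right _ Nat.card_pos).trans
        (h2.le.trans (Nat.mul_le_mul (hcard1 ha) (hcard1 hb)))
    have h4 : q ^ 3 ≤ q * q := by
      rw [← hA]
      exact (Nat.le_of_dvd Nat.card_pos (Subgroup.card_dvd_of_le hle)).trans h3
    nlinarith [hq.two_le]
  have hAnc : ¬ IsCyclic A := by
    obtain ⟨c, hcA, hc⟩ := hA2 ha₀A ha₀A
    exact not_isCyclic_of_two hexp hq ha₀A hcA ha₀ (fun h => hc (mem_sup_left h)) le_rfl ha₀A hcA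
  have hgen : ∀ T : Subgroup X, T ≤ K → A ≤ normalizer (T : Set X) →
      T ≤ ⨆ ab ∈ I.toList, T ⊓ (centralizer ({ab.1} : Set X) ⊓ centralizer ({ab.2} : Set X)) := by
    intro T hTK hAT
    refine le_trans (le_of_eq (generated_by_centralizers A T hAnc hAT
      (hcop.coprime_dvd_right (Subgroup.card_dvd_of_le hTK))).symm) ?_
    refine iSup₂_le fun a ha => ?_
    obtain ⟨haA, ha1⟩ := ha
    obtain ⟨b, hbA, hb⟩ : ∃ b ∈ A, b ∉ zpowers a := by
      obtain ⟨b, hbA, hb⟩ := hA2 haA haA
      exact ⟨b, hbA, fun h => hb (mem_sup_left h)⟩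
    obtain ⟨c, hcA, hc⟩ := hA2 haA hbA
    set B := zpowers b ⊔ zpowers c
    have hBA : B ≤ A := sup_le (zpowers_le.mpr hbA) (zpowers_le.mpr hcA)
    haveI := hEcomm hBA
    have hb1 : b ≠ 1 := fun h => hb (h ▸ one_mem _)
    have hcb : c ∉ zpowers b := fun h => hc (mem_sup_right h)
    have hBnc : ¬ IsCyclic B := not_isCyclic_of_two hexp hq hbA hcA hb1 hcb hBA
      (mem_sup_left (mem_zpowers b)) (mem_sup_right (mem_zpowers c))
    have haB : a ∉ B := by
      intro h
      have hnorm : zpowers b ≤ normalizer ((zpowers c : Subgroup X) : Set X) := by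
        refine le_trans (zpowers_le.mpr ?_) (centralizer_le_normalizer _)
        exact mem_centralizer_iff.mpr fun y hy => hcomm y (zpowers_le.mpr hcA hy) b hbA
      obtain ⟨u, hu, v, hv, e⟩ : ∃ u ∈ zpowers b, ∃ v ∈ zpowers c, u * v = a := by
        have h1 : a ∈ (↑(zpowers b ⊔ zpowers c) : Set X) := h
        rw [coe_mul_of_left_le_normalizer_right _ _ hnorm] at h1
        exact Set.mem_mul.mp h1
      rcases eq_or_ne v 1 with rfl | hv1
      · rw [mul_one] at e
        subst e
        have h5 : zpowers u = zpowers b := Subgroup.eq_of_le_of_card_ge (zpowers_le.mpr hu) (by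
          rw [Nat.card_zpowers, Nat.card_zpowers, orderOf_eq_prime (hexp _ (zpowers_le.mpr hbA hu)) ha1]
          exact orderOf_le_of_pow_eq_one hq.pos (hexp b hbA))
        exact hb (h5 ▸ mem_zpowers b)
      · have h5 : zpowers v = zpowers c := Subgroup.eq_of_le_of_card_ge (zpowers_le.mpr hv) (by
          rw [Nat.card_zpowers, Nat.card_zpowers, orderOf_eq_prime (hexp _ (zpowers_le.mpr hcA hv)) hv1]
          exact orderOf_le_of_pow_eq_one hq.pos (hexp c hcA))
        have hvab : v ∈ zpowers a ⊔ zpowers b := by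
          rw [show v = u⁻¹ * a by rw [← e]; group]
          exact mul_mem (mem_sup_right (inv_mem hu)) (mem_sup_left (mem_zpowers a))
        exact hc (zpowers_le.mpr hvab (h5 ▸ mem_zpowers c))
    set W := T ⊓ centralizer ({a} : Set X)
    have hBW : B ≤ normalizer (W : Set X) := fun e he => by
      rw [mem_normalizer_iff_smul, Subgroup.smul_inf, normalizer_le_smul hAT (hBA he),
        conj_smul_eq_self_of_mem (mem_centralizer_singleton_iff.mpr (hcomm e (hBA he) a haA))]
    refine le_trans (le_of_eq (generated_by_centralizers B W hBnc hBW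
      ((hcop.coprime_dvd_left (Subgroup.card_dvd_of_le hBA)).coprime_dvd_right
        (Subgroup.card_dvd_of_le (inf_le_left.trans hTK)))).symm) ?_
    refine iSup₂_le fun d hd => ?_
    obtain ⟨hdB, hd1⟩ := hd
    refine le_iSup₂_of_le (a, d) ?_ (le_of_eq (inf_assoc _ _ _))
    rw [Finset.mem_toList]
    simp only [I, Finset.mem_filter, Finset.mem_product, Set.Finite.mem_toFinset, SetLike.mem_coe]
    refine ⟨⟨haA, hBA hdB⟩, ha1, fun h => haB ?_⟩
    have h5 : zpowers d = zpowers a := Subgroup.eq_of_le_of_card_ge (zpowers_le.mpr h) (by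
      rw [Nat.card_zpowers, Nat.card_zpowers, orderOf_eq_prime (hexp _ (hBA hdB)) hd1]
      exact orderOf_le_of_pow_eq_one hq.pos (hexp a haA))
    exact zpowers_le.mpr hdB (h5 ▸ mem_zpowers a)
  have hprim : ∀ (p : ℕ), p.Prime → ∀ x ∈ K, (∃ k, orderOf x = p ^ k) → cls K x ≤ clsBound q m := by
    intro p hp x hx ⟨k, hk⟩
    haveI := Fact.mk hp
    obtain ⟨P, hP, hPA⟩ := exists_invariant_sylow A K hAK hcop (Or.inl hsol) p
    obtain ⟨Y, hY, -, hxY⟩ := exists_invariant_sylow_ge ⊥ K bot_le (by simp)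
      (Or.inl (isSolvable_of_comm fun a b => Subsingleton.elim _ _))
      (p := p) (U := zpowers x) (zpowers_le.mpr hx)
      (IsPGroup.of_card (n := k) (by rw [Nat.card_zpowers, hk])) bot_le
    obtain ⟨c, hcK, hcY⟩ := hY.conj hP
    have hxP : c * x * c⁻¹ ∈ P := by
      rw [← hcY, mem_smul_conj]
      simpa [mul_assoc] using hxY (mem_zpowers x)
    rw [← cls_conj K hcK x]
    have hf : ∀ ab : X × X, P ⊓ (centralizer ({ab.1} : Set X) ⊓ centralizer ({ab.2} : Set X)) ≤ P :=
      fun _ => inf_le_left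
    have hmem := mem_prodSet P hP.2.1.isNilpotent _ A hPA hf I.toList (fun L hL hLA =>
      le_trans (hgen L (hL.trans hP.1) hLA) (iSup₂_mono fun ab _ => le_inf inf_le_left
        (le_inf (inf_le_left.trans hL) inf_le_right))) _ hxP
    refine (cls_prodSet_le K (fun ab : X × X =>
      P ⊓ (centralizer ({ab.1} : Set X) ⊓ centralizer ({ab.2} : Set X))) M I.toList (fun ab hab y hy =>
      hclsE ab (Finset.mem_toList.mp hab) y ⟨hP.1 hy.1, hy.2⟩) _ hmem).trans ?_
    rw [Finset.length_toList]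
    exact Nat.pow_le_pow_right hM1 hI
  have hall := cls_le_of_primary K hprim
  refine card_commutator_le fun g => ?_
  refine le_trans (le_of_eq ?_) (hall g g.2)
  unfold cls
  rw [relIndex]
  congr 1
  ext y
  rw [mem_subgroupOf, mem_centralizer_singleton_iff, mem_centralizer_singleton_iff, Subtype.ext_iff]
  simp

end Cfsg.Agent.Grp.FixBFC
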